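import Groth.Agent.UBC.Fibres
import Groth.Agent.AcycCover.Local
import Groth.Agent.AcycBase.Lift
import Groth.Agent.AcycBase.MonoCrit
import Groth.Agent.UnitStalk.StrictPullback

/-!
# Base change along universally locally acyclic morphisms
-/

set_option autoImplicit false
set_option linter.style.haveILetI false
universe u

open CategoryTheory CategoryTheory.Limits AlgebraicGeometry Opposite IsLocalRing

namespace Groth.Agent.UBC

open Groth.Agent.EtLimit Groth.Agent.EtFound Groth.Agent.EtBC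

set_option backward.isDefEq.respectTransparency.types false

/-- the comparison is invariant under isomorphisms of the source -/
theorem compN_of_iso {X X' Y : Scheme.{u}} (g : X ⟶ Y) (g' : X' ⟶ Y) (e : X ⟶ X') [IsIso e] (he : e ≫ g' = g)
    {L : Set ℕ} {n : ℕ} (hg : EtAcyc.CompN g L n) : EtAcyc.CompN g' L n := fun F hF _ => by
  haveI := pull_preservesFiniteLimits g
  haveI := pull_preservesFiniteLimits e
  have key : ∀ q, (EtCore.Hpull g F q : _ → _) =
      (hmap ((θPull e g' g he).hom.app F) q ∘ EtCore.Hpull e ((EtCoh.pull g').obj F) q) ∘ EtCore.Hpull g' F q :=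
    fun q => funext fun x => Hpull_comp e g' g he F q x
  have hb : ∀ q, Function.Bijective
      (hmap ((θPull e g' g he).hom.app F) q ∘ EtCore.Hpull e ((EtCoh.pull g').obj F) q) := fun q =>
    (hmap_bijective _ q).comp (Hpull_bijective_of_isIso (k := e) _ q)
  refine ⟨fun q hq => (Function.Bijective.of_comp_iff' (hb q) _).1 ?_, Function.Injective.of_comp (f :=
    hmap ((θPull e g' g he).hom.app F) (n + 1) ∘ EtCore.Hpull e ((EtCoh.pull g').obj F) (n + 1)) ?_⟩
  · rw [← key]; exact (hg F hF).1 q hq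
  · rw [← key]; exact (hg F hF).2

/-- no primes, no comparison -/
theorem compN_of_no_prime {X Y : Scheme.{u}} (g : X ⟶ Y) {L : Set ℕ} (hL : ¬ ∃ ℓ ∈ L, ℓ.Prime) (n : ℕ) :
    EtAcyc.CompN g L n := fun F hF _ => by
  have hZ := AcycBase.isZero_of_isLTorsion hL hF
  have hZ' := AcycBase.isZero_of_isLTorsion hL (isLTorsion_pull g L hF)
  have h1 : ∀ q, Subsingleton (EtCoh.H Y F q) := fun q =>
    AddCommGrpCat.subsingleton_of_isZero ((EtCoh.HF Y q).map_isZero hZ)
  have h2 : ∀ q, Subsingleton (EtCoh.H X ((EtCoh.pull g).obj F) q) := fun q =>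
    AddCommGrpCat.subsingleton_of_isZero ((EtCoh.HF X q).map_isZero hZ')
  exact ⟨fun q _ => ⟨fun z z' _ => (h1 q).elim z z', fun z => ⟨0, (h2 q).elim _ z⟩⟩, fun z z' _ => (h1 _).elim z z'⟩

section local_map

variable {R R' : Type u} [CommRing R] [CommRing R'] [HenselianLocalRing R] [HenselianLocalRing R']
  [IsSepClosed (ResidueField R)] [IsSepClosed (ResidueField R')] (φ : R →+* R') [IsLocalHom φ]
  {L : Set ℕ} {n : ℕ} (hA : BCLoc (Spec.map (CommRingCat.ofHom φ)) L n)

include hA in
/-- all base changes are acyclic -/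
theorem isAcyclicN_baseChange (hL : ∃ ℓ ∈ L, ℓ.Prime) {P : Scheme.{u}} (a : P ⟶ Spec (CommRingCat.of R)) :
    EtAcyc.IsAcyclicN (pullback.fst a (Spec.map (CommRingCat.ofHom φ))) L n := by
  let h := Spec.map (CommRingCat.ofHom φ)
  let b := pullback.fst a h
  haveI : QuasiCompact b := MorphismProperty.pullback_fst _ _ inferInstance
  haveI : QuasiSeparated b := MorphismProperty.pullback_fst _ _ inferInstance
  refine AcycCover.isAcyclicN_of_fibres b L n ?_ ?_ fun m hm => AcycCover.isLocAcyclicN_mono hm.le (hA P a)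
  · intro y Ω _ _ _ _
    let z := EtAcyc.geomPt P y Ω
    exact AcycCover.isAcyclicSchemeN_of_iso
      ((IsPullback.of_hasPullback b z).flip.paste_vert (IsPullback.of_hasPullback a h)).isoPullback
      (isAcyclicSchemeN_point φ hA hL Ω (z ≫ a))
  · intro x RY RX _ _ _ _ _ _ _ _ _ _ _ _ hc
    exact AcycCover.surjective_of_geomFibres (S8534.result _ L hL n (hA P a x RY RX hc))

include hA in
/-- all base changes to schemes satisfy the comparison -/
theorem compN_baseChange {P : Scheme.{u}} (a : P ⟶ Spec (CommRingCat.of R)) :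
    EtAcyc.CompN (pullback.fst a (Spec.map (CommRingCat.ofHom φ))) L n := by
  by_cases hL : ∃ ℓ ∈ L, ℓ.Prime
  · let b := pullback.fst a (Spec.map (CommRingCat.ofHom φ))
    have hg : pullback.fst (𝟙 P) b = pullback.snd (𝟙 P) b ≫ b :=
      (Category.comp_id _).symm.trans pullback.condition
    exact compN_of_iso (pullback.fst (𝟙 P) b) b (pullback.snd (𝟙 P) b) hg.symm
      (isAcyclicN_baseChange φ hA hL a (Scheme.Etale.mk (𝟙 P)))
  · exact compN_of_no_prime _ hL n

end local_map

/-- identities transfer strict henselizations -/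
theorem transfers_id (P : Scheme.{u}) : IndEtStrict.Transfers (𝟙 P) := fun t R _ _ a b c =>
  IndEtStrict.strict_congr (y := t) (y' := (𝟙 P) t) rfl R (Hens2.specOf P t R ≫ 𝟙 P) ⟨a, b, c, Category.comp_id _⟩

set_option maxHeartbeats 1000000 in
/-- strict localizations and their morphisms with local acyclicity of all base changes -/
theorem exists_strict_bcLoc {S S' : Scheme.{u}} (g : S' ⟶ S) {L : Set ℕ} {n : ℕ} (hg : EtAcyc.IsULocAcyclicN g L n)
    (x : S') {y : S} (hy : g x = y) (RS : Type u) [CommRing RS] [IsLocalRing RS] [Algebra (S.presheaf.stalk y) RS]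
    [IsLocalHom (algebraMap (S.presheaf.stalk y) RS)] [Hensel.IsStrictHenselization (S.presheaf.stalk y) RS] :
    ∃ (RX : Type u) (_ : CommRing RX) (_ : IsLocalRing RX) (_ : Algebra (S'.presheaf.stalk x) RX)
      (_ : IsLocalHom (algebraMap (S'.presheaf.stalk x) RX)) (_ : Hensel.IsStrictHenselization (S'.presheaf.stalk x) RX)
      (ψ : RS →+* RX) (_ : IsLocalHom ψ),
      Spec.map (CommRingCat.ofHom ψ) ≫ Hens2.specOf S y RS = Hens2.specOf S' x RX ≫ g ∧
        BCLoc (Spec.map (CommRingCat.ofHom ψ)) L n := by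
  let π := Hens2.specOf S y RS
  obtain ⟨v, hv1, hv2⟩ := Scheme.Pullback.exists_preimage_pullback (f := g) (g := π) x (closedPoint RS)
    (hy.trans (UnitStalk.specMap_closed y _).symm)
  subst hv1
  obtain ⟨RX, i1, i2, i3, i4, i5, j1, j2, j3, ψ, hψ, hp, hf, hw⟩ :=
    UnitStalk.exists_strict g (IsPullback.of_hasPullback g π) v hv2 hy
  refine ⟨RX, i1, i2, i3, i4, i5, ψ, hψ, hw, fun P a => ?_⟩
  let h := Spec.map (CommRingCat.ofHom ψ)
  let ρ := pullback.snd g π
  let q := Hens2.specOf (pullback g π) v RX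
  let Q := pullback a ρ
  have hloc : EtAcyc.IsLocAcyclicN (pullback.fst a ρ) L n :=
    hg _ (pullback.snd a ρ ≫ pullback.fst g π) (a ≫ π)
      ((IsPullback.of_hasPullback a ρ).flip.paste_horiz (IsPullback.of_hasPullback g π))
  have hl : pullback.fst a h ≫ a = (pullback.snd a h ≫ q) ≫ ρ := by
    rw [pullback.condition, Category.assoc]
    exact congrArg (pullback.snd a h ≫ ·) hf.symm
  let l : pullback a h ⟶ Q := pullback.lift _ _ hl
  have hl1 : l ≫ pullback.fst a ρ = pullback.fst a h := pullback.lift_fst _ _ _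
  have sq : IsPullback l (pullback.snd a h) (pullback.snd a ρ) q := by
    refine (IsPullback.of_bot (h₃₁ := a) ?_ (pullback.lift_snd _ _ _).symm (IsPullback.of_hasPullback a ρ).flip).flip
    rw [hl1, show q ≫ ρ = h from hf]
    exact (IsPullback.of_hasPullback a h).flip
  have hchart : IndEtStrict.IsChart (q ≫ 𝟙 (pullback g π)) := IndEtStrict.isChart_specOf_comp (𝟙 _) v RX
  rw [Category.comp_id] at hchart
  have ha : IndEtStrict.Transfers l := hchart.transfers_pullback sq
  have hρ : IndEtStrict.Transfers (𝟙 P) := transfers_id P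
  exact AcycCover.onStrictLocalizations_square hρ ha (hl1.trans (Category.comp_id _).symm) hloc

variable {X Y X' Y' : Scheme.{u}} {f : X ⟶ Y} {g : Y' ⟶ Y} {f' : X' ⟶ Y'} {g' : X' ⟶ X}
  (sq : IsPullback g' f' f g) [QuasiCompact f] [QuasiSeparated f] {L : Set ℕ} {n : ℕ}
  (hg : EtAcyc.IsULocAcyclicN g L n) [PreservesFiniteLimits (EtCoh.pull g')]

include hg in
set_option maxHeartbeats 1000000 in
/-- the base change maps in degrees at most `n` and `n + 1` -/
theorem bcQ_of_uLocAcyclic (F : EtCoh.Ab X) (hF : EtAcyc.IsLTorsion L F) :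
    (∀ q : ℕ, q ≤ n → IsIso (EtBC.bcQ f g f' g' sq.w q F)) ∧ Mono (EtBC.bcQ f g f' g' sq.w (n + 1) F) := by
  suffices h : ∀ (Ω : Type u) (_ : Field Ω) (_ : IsSepClosed Ω) (ξ : Spec (CommRingCat.of Ω) ⟶ Y'),
      (∀ q : ℕ, q ≤ n → IsIso ((EtCoh.stalk ξ).map (EtBC.bcQ f g f' g' sq.w q F))) ∧
        Mono ((EtCoh.stalk ξ).map (EtBC.bcQ f g f' g' sq.w (n + 1) F)) by
    refine ⟨fun q hq => EtFound.isIso_of_stalks _ fun Ω iF iS ξ => ?_, (mono_iff_stalks _).2 fun Ω iF iS ξ => ?_⟩
    · exact (ConcreteCategory.isIso_iff_bijective _).1 ((h Ω iF iS ξ).1 q hq)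
    · exact (AddCommGrpCat.mono_iff_injective _).1 (h Ω iF iS ξ).2
  intro Ω _ _ ξ
  let x := ξ (default : Spec (CommRingCat.of Ω))
  obtain ⟨RS, _, _, _, _, _⟩ := S0537.result (Y.presheaf.stalk (g x))
  obtain ⟨RX, _, _, _, _, _, ψ, _, hspec, hA⟩ := exists_strict_bcLoc g hg x rfl RS
  obtain ⟨τ, hτ⟩ := UnitStalk.exists_resPt ξ (x := x) rfl RX
  rw [← hτ]
  have hψ := AcycBase.comp_eq_of_specOf g x ψ hspec
  haveI : HenselianLocalRing RS := Hensel.IsStrictHenselization.henselian (Y.presheaf.stalk (g x))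
  haveI : IsSepClosed (ResidueField RS) :=
    (Hensel.IsStrictHenselization.isSepClosure (R := Y.presheaf.stalk (g x)) (S := RS)).sep_closed
  haveI : HenselianLocalRing RX := Hensel.IsStrictHenselization.henselian (Y'.presheaf.stalk x)
  haveI : IsSepClosed (ResidueField RX) :=
    (Hensel.IsStrictHenselization.isSepClosure (R := Y'.presheaf.stalk x) (S := RX)).sep_closed
  let π := Hens2.specOf Y (g x) RS
  let h := Spec.map (CommRingCat.ofHom ψ)
  let PS := pullback f π
  let aS : PS ⟶ X := pullback.fst f π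
  let bS : PS ⟶ Spec (CommRingCat.of RS) := pullback.snd f π
  let PX := pullback bS h
  let m : PX ⟶ PS := pullback.fst bS h
  let bX : PX ⟶ Spec (CommRingCat.of RX) := pullback.snd bS h
  have hX : IsPullback (m ≫ aS) bX f (Hens2.specOf Y' x RX ≫ g) := by
    rw [← hspec]
    exact (IsPullback.of_hasPullback bS h).paste_horiz (IsPullback.of_hasPullback f π)
  haveI : QuasiCompact bS := MorphismProperty.pullback_snd _ _ inferInstance
  haveI : QuasiSeparated bS := MorphismProperty.pullback_snd _ _ inferInstance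
  haveI : PreservesFiniteLimits (EtCoh.pull m) := pull_preservesFiniteLimits _
  haveI : IsIso (appOf (θPull m aS (m ≫ aS) rfl) F) := by delta appOf; infer_instance
  have hc := compN_baseChange ψ hA bS ((EtCoh.pull aS).obj F) (isLTorsion_pull aS L hF)
  refine ⟨fun q hq => ?_, ?_⟩
  · refine (isIso_stalk_iff_HpullVia sq x RS RX ψ hψ τ PS PX aS bS (IsPullback.of_hasPullback f π) (m ≫ aS) bX hX m
      rfl pullback.condition F q).2 ?_
    have key : Function.Bijective (fun ξ => EtCore.HpullVia m aS (m ≫ aS) rfl F q ξ) := by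
      rw [show (fun ξ => EtCore.HpullVia m aS (m ≫ aS) rfl F q ξ) = _ from
        funext fun ξ => HpullVia_eq m aS (m ≫ aS) rfl F q ξ]
      exact (hmap_bijective (appOf (θPull m aS (m ≫ aS) rfl) F) q).comp (hc.1 q hq)
    exact key
  · refine AcycBase.mono_stalk_of_HpullVia sq x RS RX ψ hψ τ PS PX aS bS (IsPullback.of_hasPullback f π) (m ≫ aS) bX hX m
      rfl pullback.condition F (n + 1) ?_
    have key : Function.Injective (fun ξ => EtCore.HpullVia m aS (m ≫ aS) rfl F (n + 1) ξ) := by
      rw [show (fun ξ => EtCore.HpullVia m aS (m ≫ aS) rfl F (n + 1) ξ) = _ from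
        funext fun ξ => HpullVia_eq m aS (m ≫ aS) rfl F (n + 1) ξ]
      exact (hmap_bijective (appOf (θPull m aS (m ≫ aS) rfl) F) (n + 1)).1.comp hc.2
    exact key

end Groth.Agent.UBC
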