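import Groth.Agent.UBC.FiniteType
import Groth.Agent.GabberAff13.FieldExt
import Groth.Agent.S8534
import Groth.Agent.GenAcyc.Main

/-!
# Geometric fibres at arbitrary separably closed points
-/

set_option autoImplicit false
set_option linter.style.haveILetI false
universe u

open CategoryTheory CategoryTheory.Limits AlgebraicGeometry Opposite IsLocalRing

namespace Groth.Agent.UBC

open Groth.Agent.EtLimit Groth.Agent.EtFound Groth.Agent.EtBC

set_option backward.isDefEq.respectTransparency.types false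

section stages

variable (A : Type u) [CommRing A] (K : Type u) [CommRing K] [Algebra A K]

/-- the finitely generated subalgebras -/
noncomputable def fgAlg : Finset K ⥤ CommRingCat.{u} where
  obj s := CommRingCat.of (Algebra.adjoin A (s : Set K))
  map {s t} h := CommRingCat.ofHom
    (Subalgebra.inclusion (Algebra.adjoin_mono (Finset.coe_subset.2 (leOfHom h)))).toRingHom

/-- the inclusions -/
noncomputable def fgCocone : Cocone (fgAlg A K) :=
  Cocone.mk (CommRingCat.of K) { app := fun s => CommRingCat.ofHom (Algebra.adjoin A (s : Set K)).val.toRingHom }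

theorem nonempty_isColimit_fgCocone : Nonempty (IsColimit (fgCocone A K)) := by
  classical
  haveI : IsFiltered (Finset K) := isFiltered_of_directed_le_nonempty _
  haveI : ReflectsColimit (fgAlg A K) (forget CommRingCat.{u}) :=
    reflectsColimit_of_reflectsIsomorphisms (fgAlg A K) _
  refine ⟨isColimitOfReflects (forget CommRingCat.{u}) ?_⟩
  refine Types.FilteredColimit.isColimitOf _ _ (fun x => ?_) fun i j x y hxy => ?_
  · exact ⟨{x}, ⟨x, Algebra.subset_adjoin (Finset.mem_coe.2 (Finset.mem_singleton_self x))⟩, rfl⟩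
  · exact ⟨i ∪ j, homOfLE Finset.subset_union_left, homOfLE Finset.subset_union_right, Subtype.ext hxy⟩

/-- the stage -/
noncomputable def fgHom (s : Finset K) : Spec ((fgAlg A K).obj s) ⟶ Spec (CommRingCat.of A) :=
  Spec.map (CommRingCat.ofHom (algebraMap A (Algebra.adjoin A (s : Set K))))

theorem map_fgHom {s t : Finset K} (h : s ⟶ t) : Spec.map ((fgAlg A K).map h) ≫ fgHom A K s = fgHom A K t := by
  rw [fgHom, fgHom, ← Spec.map_comp]
  rfl

/-- the stages over the base -/
noncomputable def fgStages : (Finset K)ᵒᵖ ⥤ CategoryTheory.Over (Spec (CommRingCat.of A)) where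
  obj s := CategoryTheory.Over.mk (fgHom A K s.unop)
  map {s t} m := CategoryTheory.Over.homMk (Spec.map ((fgAlg A K).map m.unop)) (map_fgHom A K m.unop)
  map_id s := by
    ext : 1
    show Spec.map ((fgAlg A K).map (𝟙 s.unop)) = _
    rw [CategoryTheory.Functor.map_id, Spec.map_id]
    rfl
  map_comp {s t r} a b := by
    ext : 1
    show Spec.map ((fgAlg A K).map (b.unop ≫ a.unop)) =
      Spec.map ((fgAlg A K).map a.unop) ≫ Spec.map ((fgAlg A K).map b.unop)
    rw [Functor.map_comp, Spec.map_comp]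

/-- the big algebra over the stages -/
noncomputable def fgCone : Cone (fgStages A K) :=
  Cone.mk (CategoryTheory.Over.mk (Spec.map (CommRingCat.ofHom (algebraMap A K))))
    { app := fun s => CategoryTheory.Over.homMk (Spec.map ((fgCocone A K).ι.app s.unop)) (by
        show Spec.map ((fgCocone A K).ι.app s.unop) ≫ fgHom A K s.unop = Spec.map (CommRingCat.ofHom (algebraMap A K))
        rw [fgHom, ← Spec.map_comp]
        rfl)
      naturality := fun s t m => by
        ext : 1
        show 𝟙 _ ≫ Spec.map ((fgCocone A K).ι.app t.unop) =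
          Spec.map ((fgCocone A K).ι.app s.unop) ≫ Spec.map ((fgAlg A K).map m.unop)
        rw [Category.id_comp, ← Spec.map_comp]
        rfl }

theorem nonempty_isLimit_fgCone : Nonempty (IsLimit (fgCone A K)) := by
  classical
  obtain ⟨hc⟩ := nonempty_isColimit_fgCocone A K
  haveI : IsFiltered (Finset K) := isFiltered_of_directed_le_nonempty _
  haveI : IsConnected (Finset K) := IsFiltered.isConnected _
  have hl : IsLimit (Scheme.Spec.mapCone (fgCocone A K).op) := isLimitOfPreserves Scheme.Spec hc.op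
  exact ⟨isLimitOfReflects (CategoryTheory.Over.forget _) hl⟩

end stages

/-- the residue field of a separably closed field is separably closed -/
theorem isSepClosed_residueField_field (Ω : Type u) [Field Ω] [IsSepClosed Ω] : IsSepClosed (ResidueField Ω) := by
  refine IsSepClosed.of_exists_root _ fun f hm hi hs => ?_
  let e := RingEquiv.ofBijective (IsLocalRing.residue Ω)
    ⟨(IsLocalRing.residue Ω).injective, IsLocalRing.residue_surjective⟩
  obtain ⟨x, hx⟩ := IsSepClosed.exists_root (f.map (e.symm : _ →+* Ω))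
    (by rw [Polynomial.degree_map]; exact hi.degree_pos.ne') (hs.map)
  refine ⟨e x, ?_⟩
  have := congrArg e hx
  have h2 := Polynomial.hom_eval₂ f e.symm.toRingHom e.toRingHom x
  rw [Polynomial.eval_map] at this
  rw [show e.toRingHom.comp e.symm.toRingHom = RingHom.id _ from RingHom.ext e.apply_symm_apply] at h2
  rw [map_zero] at this
  exact h2.symm.trans this

variable {R R' : Type u} [CommRing R] [CommRing R'] [HenselianLocalRing R] [HenselianLocalRing R']
  [IsSepClosed (ResidueField R)] [IsSepClosed (ResidueField R')] (φ : R →+* R') [IsLocalHom φ]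
  {L : Set ℕ} {n : ℕ} (hA : BCLoc (Spec.map (CommRingCat.ofHom φ)) L n)
  {Ω : Type u} [CommRing Ω] (c : Spec (CommRingCat.of Ω) ⟶ Spec (CommRingCat.of R))

include hA in
set_option maxHeartbeats 2000000 in
/-- pullback to the base change of any affine scheme -/
theorem bijective_hVia_affine (M : EtCoh.Ab (Spec (CommRingCat.of R))) (hM : EtAcyc.IsLTorsion L M) (q : ℕ) (hq : q ≤ n)
    [PreservesFiniteLimits (EtCoh.pull (pullback.fst c (Spec.map (CommRingCat.ofHom φ))))] :
    Function.Bijective (hVia (pullback.fst c (Spec.map (CommRingCat.ofHom φ))) c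
      (pullback.fst c (Spec.map (CommRingCat.ofHom φ)) ≫ c) rfl M q) := by
  classical
  haveI hall : ∀ {A B : Scheme.{u}} (f : A ⟶ B), PreservesFiniteLimits (EtCoh.pull f) := fun f => pull_preservesFiniteLimits f
  letI : Algebra R Ω := (Spec.preimage c).hom.toAlgebra
  have hcΩ : Spec.map (CommRingCat.ofHom (algebraMap R Ω)) = c := Spec.map_preimage c
  let h := Spec.map (CommRingCat.ofHom φ)
  haveI : IsFiltered (Finset Ω) := isFiltered_of_directed_le_nonempty _
  haveI : IsConnected (Finset Ω) := IsFiltered.isConnected _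
  obtain ⟨hlim⟩ := nonempty_isLimit_fgCone R Ω
  haveI : PreservesLimitsOfSize.{u, u} (CategoryTheory.Over.pullback h) :=
    (CategoryTheory.Over.mapPullbackAdj h).rightAdjoint_preservesLimits
  let Us := fgStages R Ω ⋙ CategoryTheory.Over.forget (Spec (CommRingCat.of R))
  let cU : Cone Us := (CategoryTheory.Over.forget (Spec (CommRingCat.of R))).mapCone (fgCone R Ω)
  have hcU : IsLimit cU := isLimitOfPreserves (CategoryTheory.Over.forget _) hlim
  let Xs := fgStages R Ω ⋙ CategoryTheory.Over.pullback h ⋙ CategoryTheory.Over.forget (Spec (CommRingCat.of R'))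
  let cX : Cone Xs :=
    (CategoryTheory.Over.pullback h ⋙ CategoryTheory.Over.forget (Spec (CommRingCat.of R'))).mapCone (fgCone R Ω)
  have hcX : IsLimit cX :=
    isLimitOfPreserves (CategoryTheory.Over.pullback h ⋙ CategoryTheory.Over.forget (Spec (CommRingCat.of R'))) hlim
  let b : ∀ s : Finset Ω, Xs.obj (op s) ⟶ Us.obj (op s) := fun s => pullback.fst (fgHom R Ω s) h
  let eU : ∀ s : Finset Ω, Us.obj (op s) ⟶ Spec (CommRingCat.of R) := fun s => fgHom R Ω s
  let eX : ∀ s : Finset Ω, Xs.obj (op s) ⟶ Spec (CommRingCat.of R) := fun s => b s ≫ eU s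
  have heU : ∀ {s t : Finset Ω} (hst : s ≤ t), EtLimit.tr Us hst ≫ eU s = eU t := fun {s t} hst =>
    map_fgHom R Ω (homOfLE hst)
  have hb : ∀ {s t : Finset Ω} (hst : s ≤ t), EtLimit.tr Xs hst ≫ b s = b t ≫ EtLimit.tr Us hst :=
    fun {s t} hst => pullback.lift_fst _ _ _
  have heX : ∀ {s t : Finset Ω} (hst : s ≤ t), EtLimit.tr Xs hst ≫ eX s = eX t := fun {s t} hst => by
    show EtLimit.tr Xs hst ≫ b s ≫ eU s = b t ≫ eU t
    rw [← Category.assoc, hb hst, Category.assoc, heU hst]
  haveI aU : ∀ a, IsAffine (Us.obj a) := fun a =>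
    inferInstanceAs (IsAffine (Spec ((fgAlg R Ω).obj a.unop)))
  haveI aX : ∀ a, IsAffine (Xs.obj a) := fun a =>
    inferInstanceAs (IsAffine (pullback (fgHom R Ω a.unop) h))
  have affU : ∀ ⦃a a' : (Finset Ω)ᵒᵖ⦄ (m : a ⟶ a'), IsAffineHom (Us.map m) := fun a a' m => inferInstance
  have affX : ∀ ⦃a a' : (Finset Ω)ᵒᵖ⦄ (m : a ⟶ a'), IsAffineHom (Xs.map m) := fun a a' m => inferInstance
  haveI : ∀ a, PreservesFiniteLimits (EtCoh.pull (cU.π.app a)) := fun a => pull_preservesFiniteLimits _
  haveI : ∀ a, PreservesFiniteLimits (EtCoh.pull (cX.π.app a)) := fun a => pull_preservesFiniteLimits _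
  haveI : ∀ ⦃a a' : (Finset Ω)ᵒᵖ⦄ (m : a ⟶ a'), PreservesFiniteLimits (EtCoh.pull (Us.map m)) :=
    fun a a' m => pull_preservesFiniteLimits _
  haveI : ∀ ⦃a a' : (Finset Ω)ᵒᵖ⦄ (m : a ⟶ a'), PreservesFiniteLimits (EtCoh.pull (Xs.map m)) :=
    fun a a' m => pull_preservesFiniteLimits _
  haveI : ∀ s, PreservesFiniteLimits (EtCoh.pull (b s)) := fun s => pull_preservesFiniteLimits _
  let pr := pullback.fst c h
  let iX : pullback c h ≅ cX.pt := pullback.congrHom hcΩ.symm rfl
  haveI : PreservesFiniteLimits (EtCoh.pull iX.hom) := pull_preservesFiniteLimits _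
  let p : cX.pt ⟶ cU.pt := pullback.fst (Spec.map (CommRingCat.ofHom (algebraMap R Ω))) h
  haveI : PreservesFiniteLimits (EtCoh.pull p) := pull_preservesFiniteLimits _
  haveI : PreservesFiniteLimits (EtCoh.pull (𝟙 cU.pt)) := pull_preservesFiniteLimits _
  let eU₀ : cU.pt ⟶ Spec (CommRingCat.of R) := c
  have heU₀ : ∀ s, cU.π.app (op s) ≫ eU s = eU₀ := fun s =>
    (CategoryTheory.Over.w ((fgCone R Ω).π.app (op s))).trans hcΩ
  have hp : ∀ s, cX.π.app (op s) ≫ b s = p ≫ cU.π.app (op s) := fun s => pullback.lift_fst _ _ _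
  have heX₀ : ∀ s, cX.π.app (op s) ≫ eX s = p ≫ eU₀ := fun s => by
    show cX.π.app (op s) ≫ b s ≫ eU s = _
    rw [← Category.assoc, hp, Category.assoc, heU₀]
  have HU := EtLimit.genSys_comparison' Us affU cU hcU (fun a => inferInstance) (fun a => inferInstance)
    eU @heU M eU₀ heU₀ q
  have HX := EtLimit.genSys_comparison' Xs affX cX hcX (fun a => inferInstance) (fun a => inferInstance)
    eX @heX M (p ≫ eU₀) heX₀ q
  have hstage : ∀ s : Finset Ω, Function.Bijective (hVia (b s) (eU s) (eX s) rfl M q) := fun s => by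
    have hft : (algebraMap R (Algebra.adjoin R (s : Set Ω))).FiniteType :=
      RingHom.finiteType_algebraMap.2 ((Subalgebra.fg_iff_finiteType _).1 ⟨s, rfl⟩)
    have hC := compN_affine_finiteType φ hA _ _ hft
    haveI : PreservesFiniteLimits (EtCoh.pull (pullback.fst (Spec.map (CommRingCat.ofHom (algebraMap R (Algebra.adjoin R (s : Set Ω))))) (Spec.map (CommRingCat.ofHom φ)))) := pull_preservesFiniteLimits _
    haveI : IsIso (appOf (θPull (b s) (eU s) (eX s) rfl) M) := by delta appOf; infer_instance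
    exact (hmap_bijective (appOf (θPull (b s) (eU s) (eX s) rfl) M) q).comp
      ((hC ((EtCoh.pull (eU s)).obj M) (isLTorsion_pull _ L hM)).1 q hq)
  have hP : Function.Bijective (hVia p eU₀ (p ≫ eU₀) rfl M q) := by
    refine ⟨(injective_iff_map_eq_zero _).2 fun y hy => ?_, fun ξ => ?_⟩
    · obtain ⟨s, y', rfl⟩ := HU.1 y
      let w : cX.pt ⟶ Us.obj (op s) := p ≫ cU.π.app (op s)
      haveI : PreservesFiniteLimits (EtCoh.pull w) := pull_preservesFiniteLimits _
      rw [hVia_comp p (cU.π.app (op s)) (eU s) w eU₀ (p ≫ eU₀) rfl (heU₀ s) rfl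
        (by simp only [w, Category.assoc, heU₀]),
        ← hVia_comp (cX.π.app (op s)) (b s) (eU s) w (eX s) (p ≫ eU₀) (hp s) rfl (heX₀ s)
        (by simp only [w, Category.assoc, heU₀])] at hy
      obtain ⟨k, hk, hdie⟩ := HX.2 s _ hy
      haveI : PreservesFiniteLimits (EtCoh.pull (b k ≫ EtLimit.tr Us hk)) := pull_preservesFiniteLimits _
      haveI : IsIso (appOf (θPull (EtLimit.tr Xs hk) (eX s) (eX k) (heX hk)) M) := by delta appOf; infer_instance
      have h0 : hVia (EtLimit.tr Xs hk) (eX s) (eX k) (heX hk) M q (hVia (b s) (eU s) (eX s) rfl M q y') = 0 := by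
        show hmap (appOf (θPull (EtLimit.tr Xs hk) (eX s) (eX k) (heX hk)) M) q
          (EtCore.Hpull (EtLimit.tr Xs hk) _ q (hVia (b s) (eU s) (eX s) rfl M q y')) = 0
        exact (congrArg (hmap (appOf (θPull (EtLimit.tr Xs hk) (eX s) (eX k) (heX hk)) M) q) hdie).trans (map_zero _)
      rw [hVia_comp (EtLimit.tr Xs hk) (b s) (eU s) (b k ≫ EtLimit.tr Us hk) (eX s) (eX k) (hb hk) rfl (heX hk)
        (by rw [Category.assoc, heU]),
        ← hVia_comp (b k) (EtLimit.tr Us hk) (eU s) (b k ≫ EtLimit.tr Us hk) (eU k) (eX k) rfl (heU hk) rfl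
        (by rw [Category.assoc, heU])] at h0
      have h1 : hVia (EtLimit.tr Us hk) (eU s) (eU k) (heU hk) M q y' = 0 :=
        (hstage k).1 (h0.trans (map_zero _).symm)
      haveI : PreservesFiniteLimits (EtCoh.pull (cU.π.app (op s))) := inferInstance
      rw [← hVia_comp (cU.π.app (op k)) (EtLimit.tr Us hk) (eU s) (cU.π.app (op s)) (eU k) eU₀
        (cU.w (homOfLE hk).op) (heU hk) (heU₀ k) (heU₀ s), h1, map_zero]
    · obtain ⟨s, x, rfl⟩ := HX.1 ξ
      obtain ⟨y', rfl⟩ := (hstage s).2 x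
      refine ⟨hVia (cU.π.app (op s)) (eU s) eU₀ (heU₀ s) M q y', ?_⟩
      let w : cX.pt ⟶ Us.obj (op s) := p ≫ cU.π.app (op s)
      haveI : PreservesFiniteLimits (EtCoh.pull w) := pull_preservesFiniteLimits _
      rw [hVia_comp p (cU.π.app (op s)) (eU s) w eU₀ (p ≫ eU₀) rfl (heU₀ s) rfl
          (by simp only [w, Category.assoc, heU₀]),
        hVia_comp (cX.π.app (op s)) (b s) (eU s) w (eX s) (p ≫ eU₀) (hp s) rfl (heX₀ s)
          (by simp only [w, Category.assoc, heU₀])]
  haveI : PreservesFiniteLimits (EtCoh.pull (iX.hom ≫ p)) := pull_preservesFiniteLimits _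
  haveI : PreservesFiniteLimits (EtCoh.pull (Iso.refl cU.pt).hom) := pull_preservesFiniteLimits _
  have e1 : iX.hom ≫ p = pr := (pullback.lift_fst _ _ _).trans (Category.comp_id _)
  exact (EtBC.hVia_bijective_iff p eU₀ (p ≫ eU₀) rfl pr c (pr ≫ c) rfl (Iso.refl cU.pt) iX
    (Category.id_comp _) ((Category.assoc _ _ _).symm.trans (congrArg (· ≫ c) e1))
    (e1.trans (Category.comp_id _).symm) M q).1 hP

include hA in
/-- geometric fibres at arbitrary separably closed points -/
theorem isAcyclicSchemeN_point (hL : ∃ ℓ ∈ L, ℓ.Prime) (Ω : Type u) [Field Ω] [IsSepClosed Ω]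
    (c : Spec (CommRingCat.of Ω) ⟶ Spec (CommRingCat.of R)) :
    EtAcyc.IsAcyclicSchemeN L n (pullback c (Spec.map (CommRingCat.ofHom φ))) := by
  let pr := pullback.fst c (Spec.map (CommRingCat.ofHom φ))
  haveI := pull_preservesFiniteLimits pr
  have hbij : ∀ ℓ : ℕ, ℓ.Prime → ℓ ∈ L → ∀ q ≤ n, Function.Bijective
      (EtCore.Hpull pr (EtCoh.const (Spec (CommRingCat.of Ω)) (ZMod ℓ)) q) := fun ℓ hℓ hℓL q hq => by
    have hM : EtAcyc.IsLTorsion L (EtCoh.const (Spec (CommRingCat.of R)) (ZMod ℓ)) := by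
      refine GenAcyc.isLTorsion_const _ _ fun a => ⟨ℓ, ⟨hℓ.pos, fun p hp hpd =>
        ((Nat.prime_dvd_prime_iff_eq hp hℓ).1 hpd) ▸ hℓL⟩, ?_⟩
      ext
      simp
    have h1 := bijective_hVia_affine φ hA c _ hM q hq
    haveI : IsIso (appOf (θPull pr c (pr ≫ c) rfl) (EtCoh.const (Spec (CommRingCat.of R)) (ZMod ℓ))) := by
      delta appOf; infer_instance
    exact UnitStalk.Hpull_bijective_of_iso pr (EtCore.pullConst c (ZMod ℓ)).inv q
      ((Function.Bijective.of_comp_iff' (EtBC.hmap_bijective_of_isIso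
        (appOf (θPull pr c (pr ≫ c) rfl) (EtCoh.const (Spec (CommRingCat.of R)) (ZMod ℓ))) q) _).1 h1)
  obtain ⟨ℓ, hℓL, hℓ⟩ := hL
  haveI : Fact ℓ.Prime := ⟨hℓ⟩
  obtain ⟨hne, hconn⟩ := FibreAcyc.nonempty_connectedSpace Ω pr (ZMod ℓ) (hbij ℓ hℓ hℓL 0 (Nat.zero_le n))
  refine ⟨hne, hconn, fun p hp hpL q hq1 hqn => ?_⟩
  haveI : IsSepClosed (ResidueField Ω) := isSepClosed_residueField_field Ω
  haveI := S0073.result Ω (EtCoh.const (Spec (CommRingCat.of Ω)) (ZMod p)) q hq1
  haveI := (hbij p hp hpL q hqn).2.subsingleton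
  exact (EtBC.hmap_bijective_of_isIso (EtCore.pullConst pr (ZMod p)).hom q).2.subsingleton

end Groth.Agent.UBC
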