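import Groth.Agent.UBC.Proper
import Groth.Agent.S8537
import Groth.Agent.AcycBase.Fwd
import Groth.Agent.FibreAcyc.Main
import Groth.Agent.H28.AffChart
import Groth.Agent.PnCoh.Chow.Proper

/-!
# Comparison for affine schemes of finite type over strictly local bases
-/

set_option autoImplicit false
set_option linter.style.haveILetI false
universe u

open CategoryTheory CategoryTheory.Limits AlgebraicGeometry Opposite IsLocalRing

namespace Groth.Agent.UBC

open Groth.Agent.EtLimit Groth.Agent.EtFound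

set_option backward.isDefEq.respectTransparency.types false

/-- torsion for a set of primes is torsion -/
theorem isTorsion_of_isLTorsion {X : Scheme.{u}} {L : Set ℕ} {F : EtCoh.Ab X} (hF : EtAcyc.IsLTorsion L F) :
    EtCoh.IsTorsion F := fun U s x => by
  obtain ⟨V, g, m, hv, hm, h0⟩ := hF U s x
  exact ⟨V, g, hv, isOfFinAddOrder_iff_nsmul_eq_zero.2 ⟨m, hm.1, h0⟩⟩

/-- all base changes are locally acyclic -/
def BCLoc {S T : Scheme.{u}} (h : T ⟶ S) (L : Set ℕ) (n : ℕ) : Prop :=
  ∀ (P : Scheme.{u}) (a : P ⟶ S), EtAcyc.IsLocAcyclicN (pullback.fst a h) L n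

variable {S T : Scheme.{u}} [IsAffine S] [IsAffine T] (h : T ⟶ S) {L : Set ℕ} {n : ℕ}

set_option maxHeartbeats 1000000 in
/-- the comparison passes along morphisms satisfying base change -/
theorem compN_step {P Q : Scheme.{u}} (a : P ⟶ S) (p : Q ⟶ P) [CompactSpace P] [QuasiSeparatedSpace P]
    [CompactSpace Q] [QuasiSeparatedSpace Q] (hP : EtAcyc.CompN (pullback.fst a h) L n)
    (hbc : ∀ (Q' : Scheme.{u}) (hb : Q' ⟶ Q) (pY : Q' ⟶ pullback a h)
      (sq : IsPullback hb pY p (pullback.fst a h)) [PreservesFiniteLimits (EtCoh.pull hb)] (Fb : EtCoh.Ab Q),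
      EtAcyc.IsLTorsion L Fb → (∀ i : ℕ, i ≤ n → IsIso (EtBC.bcQ p (pullback.fst a h) pY hb sq.w i Fb)) ∧
        Mono (EtBC.bcQ p (pullback.fst a h) pY hb sq.w (n + 1) Fb)) :
    EtAcyc.CompN (pullback.fst (p ≫ a) h) L n := by
  have hc : (pullback.fst (p ≫ a) h ≫ p) ≫ a = pullback.snd (p ≫ a) h ≫ h := by
    rw [Category.assoc, pullback.condition]
  let pY : pullback (p ≫ a) h ⟶ pullback a h := pullback.lift _ _ hc
  have sq : IsPullback (pullback.fst (p ≫ a) h) pY p (pullback.fst a h) :=
    IsPullback.of_bot (by rw [pullback.lift_snd]; exact IsPullback.of_hasPullback (p ≫ a) h)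
      (pullback.lift_fst _ _ _).symm (IsPullback.of_hasPullback a h)
  haveI : QuasiCompact (pullback.fst a h) := MorphismProperty.pullback_fst _ _ inferInstance
  haveI : QuasiSeparated (pullback.fst a h) := MorphismProperty.pullback_fst _ _ inferInstance
  haveI : CompactSpace ↥(pullback a h) := QuasiCompact.compactSpace_of_compactSpace (pullback.fst a h)
  haveI : QuasiSeparatedSpace ↥(pullback a h) := quasiSeparatedSpace_of_quasiSeparated (pullback.fst a h)
  haveI : PreservesFiniteLimits (EtCoh.pull (pullback.fst (p ≫ a) h)) := pull_preservesFiniteLimits _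
  exact S8537.result (pullback.fst a h) p (pullback.fst (p ≫ a) h) pY sq L n hP fun Fb hFb => hbc _ _ _ sq Fb hFb

/-- along closed immersions -/
theorem compN_closed {P Q : Scheme.{u}} (a : P ⟶ S) (p : Q ⟶ P) [IsClosedImmersion p] [CompactSpace P]
    [QuasiSeparatedSpace P] (hP : EtAcyc.CompN (pullback.fst a h) L n) :
    EtAcyc.CompN (pullback.fst (p ≫ a) h) L n := by
  haveI : CompactSpace Q := QuasiCompact.compactSpace_of_compactSpace p
  haveI : QuasiSeparatedSpace Q := quasiSeparatedSpace_of_quasiSeparated p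
  refine compN_step h a p hP fun Q' hb pY sq _ Fb _ => ?_
  have H := fun i => FibreAcyc.isIso_bcQ_integral sq Fb i
  haveI := H (n + 1)
  exact ⟨fun i _ => H i, inferInstance⟩

/-- along quasi-compact open immersions -/
theorem compN_open {P Q : Scheme.{u}} (a : P ⟶ S) (p : Q ⟶ P) [IsOpenImmersion p] [QuasiCompact p] [CompactSpace P]
    [QuasiSeparatedSpace P] (hA : BCLoc h L n) (hP : EtAcyc.CompN (pullback.fst a h) L n) :
    EtAcyc.CompN (pullback.fst (p ≫ a) h) L n := by
  haveI : CompactSpace Q := QuasiCompact.compactSpace_of_compactSpace p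
  haveI : QuasiSeparatedSpace Q := quasiSeparatedSpace_of_quasiSeparated p
  exact compN_step h a p hP fun Q' hb pY sq _ Fb hFb => AcycBase.bcQ_immersion (pullback.fst a h) (hA P a) p sq Fb hFb

variable {R R' : Type u} [CommRing R] [CommRing R'] [HenselianLocalRing R] [HenselianLocalRing R']
  [IsSepClosed (ResidueField R)] [IsSepClosed (ResidueField R')] (φ : R →+* R') [IsLocalHom φ]

/-- proper schemes -/
theorem compN_proper {P : Scheme.{u}} (a : P ⟶ Spec (CommRingCat.of R)) [IsProper a] :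
    EtAcyc.CompN (pullback.fst a (Spec.map (CommRingCat.ofHom φ))) L n := fun F hF _ =>
  ⟨fun q _ => bijective_Hpull_proper φ a F (isTorsion_of_isLTorsion hF) q,
    (bijective_Hpull_proper φ a F (isTorsion_of_isLTorsion hF) (n + 1)).1⟩

set_option maxHeartbeats 1000000 in
/-- affine schemes of finite type -/
theorem compN_affine_finiteType (hA : BCLoc (Spec.map (CommRingCat.ofHom φ)) L n) (B : Type u) [CommRing B]
    (ψ : R →+* B) (hψ : ψ.FiniteType) :
    EtAcyc.CompN (pullback.fst (Spec.map (CommRingCat.ofHom ψ)) (Spec.map (CommRingCat.ofHom φ))) L n := by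
  letI := ψ.toAlgebra
  haveI : Algebra.FiniteType R B := hψ
  obtain ⟨m, π, hπ⟩ := Algebra.FiniteType.iff_quotient_mvPolynomial''.1 ‹Algebra.FiniteType R B›
  let S₀ := Spec (CommRingCat.of R)
  let ρ := π.toRingHom.comp (MvPolynomial.renameEquiv R (Equiv.ulift.{u} (α := Fin m))).toRingEquiv.toRingHom
  have hρ : Function.Surjective ρ :=
    hπ.comp (MvPolynomial.renameEquiv R (Equiv.ulift.{u} (α := Fin m))).surjective
  let c : Spec (CommRingCat.of B) ⟶ H28.AffChart.AS m S₀ :=
    Spec.map (CommRingCat.ofHom ρ) ≫ (AffineSpace.SpecIso (ULift.{u} (Fin m)) (CommRingCat.of R)).inv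
  haveI : IsClosedImmersion (Spec.map (CommRingCat.ofHom ρ)) := IsClosedImmersion.spec_of_surjective _ hρ
  haveI : IsClosedImmersion c := by dsimp [c]; infer_instance
  have hc : c ≫ (H28.AffChart.AS m S₀ ↘ S₀) = Spec.map (CommRingCat.ofHom ψ) := by
    show (Spec.map (CommRingCat.ofHom ρ) ≫ _) ≫ _ = _
    rw [Category.assoc]
    erw [AffineSpace.SpecIso_inv_over]
    rw [← Spec.map_comp]
    refine congrArg Spec.map (CommRingCat.hom_ext (RingHom.ext fun r => ?_))
    show π ((MvPolynomial.renameEquiv R Equiv.ulift) (MvPolynomial.C r)) = ψ r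
    rw [MvPolynomial.renameEquiv_apply, MvPolynomial.rename_C]
    exact π.commutes r
  haveI : IsProper (CohB1.ProjSpace.toSpec m (H28.AffChart.Z₀.{u})) := PnCoh.Chow.isProper_toSpec m _
  haveI : IsProper (KRR.pr m S₀) := MorphismProperty.pullback_snd _ _ ‹IsProper (CohB1.ProjSpace.toSpec m _)›
  haveI : CompactSpace ↥(KRR.PY m S₀) := QuasiCompact.compactSpace_of_compactSpace (KRR.pr m S₀)
  haveI : QuasiSeparatedSpace ↥(KRR.PY m S₀) := quasiSeparatedSpace_of_quasiSeparated (KRR.pr m S₀)
  haveI : QuasiCompact (H28.AffChart.chart m S₀) := by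
    haveI : QuasiCompact (H28.AffChart.chart m S₀ ≫ KRR.pr m S₀) := by
      rw [H28.AffChart.chart_pr]; infer_instance
    exact QuasiCompact.of_comp _ (KRR.pr m S₀)
  have h1 := compN_open (Spec.map (CommRingCat.ofHom φ)) (KRR.pr m S₀) (H28.AffChart.chart m S₀) hA
    (compN_proper (L := L) (n := n) φ (KRR.pr m S₀))
  rw [H28.AffChart.chart_pr] at h1
  haveI : CompactSpace ↥(H28.AffChart.AS m S₀) := QuasiCompact.compactSpace_of_compactSpace (H28.AffChart.AS m S₀ ↘ S₀)
  haveI : QuasiSeparatedSpace ↥(H28.AffChart.AS m S₀) :=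
    quasiSeparatedSpace_of_quasiSeparated (H28.AffChart.AS m S₀ ↘ S₀)
  have h2 := compN_closed (Spec.map (CommRingCat.ofHom φ)) (H28.AffChart.AS m S₀ ↘ S₀) c h1
  rwa [hc] at h2

end Groth.Agent.UBC
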