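import Groth.Agent.GabberAff13.Proper
import Groth.Agent.S3479
import Groth.Agent.EtBC.ViaTools
import Groth.Agent.EtBC.BcStalk
import Groth.Agent.BCCrit13.Basic
import Groth.Agent.EtFound.AcyclicComp

/-!
# Comparison along local maps of strictly henselian rings for proper schemes
-/

set_option autoImplicit false
set_option linter.style.haveILetI false
universe u

open CategoryTheory CategoryTheory.Limits AlgebraicGeometry Opposite IsLocalRing

namespace Groth.Agent.UBC

open Groth.Agent.EtLimit Groth.Agent.EtFound Groth.Agent.EtBC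

set_option backward.isDefEq.respectTransparency.types false

/-- pullback along a composite -/
theorem Hpull_comp_bijective_iff {U V W : Scheme.{u}} (k : U ⟶ V) (h : V ⟶ W) (w : U ⟶ W) (hw : k ≫ h = w)
    [PreservesFiniteLimits (EtCoh.pull k)] [PreservesFiniteLimits (EtCoh.pull h)]
    [PreservesFiniteLimits (EtCoh.pull w)] (G : EtCoh.Ab W) (n : ℕ) :
    Function.Bijective (EtCore.Hpull w G n) ↔
      Function.Bijective (fun x => EtCore.Hpull k ((EtCoh.pull h).obj G) n (EtCore.Hpull h G n x)) := by
  let θ := (θPull k h w hw).hom.app G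
  rw [show (EtCore.Hpull w G n : _ → _) =
    hmap θ n ∘ fun x => EtCore.Hpull k ((EtCoh.pull h).obj G) n (EtCore.Hpull h G n x) from
    funext fun x => Hpull_comp k h w hw G n x]
  exact Function.Bijective.of_comp_iff' (hmap_bijective θ n) _

/-- inverse images of torsion sheaves are torsion -/
theorem isTorsion_pull {U V : Scheme.{u}} (g : U ⟶ V) {F : EtCoh.Ab V} (hF : EtCoh.IsTorsion F) :
    EtCoh.IsTorsion ((EtCoh.pull g).obj F) :=
  (BCCrit13.isLTorsion_univ_iff _).1 (EtFound.isLTorsion_pull g Set.univ ((BCCrit13.isLTorsion_univ_iff _).2 hF))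

variable {R R' : Type u} [CommRing R] [CommRing R'] [HenselianLocalRing R] [HenselianLocalRing R']
  [IsSepClosed (ResidueField R)] [IsSepClosed (ResidueField R')] (φ : R →+* R') [IsLocalHom φ]
  {P : Scheme.{u}} (a : P ⟶ Spec (CommRingCat.of R)) [IsProper a]

set_option maxHeartbeats 1000000 in
/-- proper schemes -/
theorem bijective_Hpull_proper [PreservesFiniteLimits (EtCoh.pull (pullback.fst a (Spec.map (CommRingCat.ofHom φ))))]
    (F : EtCoh.Ab P) (hF : EtCoh.IsTorsion F) (q : ℕ) :
    Function.Bijective (EtCore.Hpull (pullback.fst a (Spec.map (CommRingCat.ofHom φ))) F q) := by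
  let h := Spec.map (CommRingCat.ofHom φ)
  let b := pullback.fst a h
  let a' := pullback.snd a h
  let k := ResidueField R
  let K := ResidueField R'
  letI : Algebra k K := (ResidueField.map φ).toAlgebra
  let s := Spec.map (CommRingCat.ofHom (residue R))
  let s' := Spec.map (CommRingCat.ofHom (residue R'))
  let ε := Spec.map (CommRingCat.ofHom (algebraMap k K))
  let i := pullback.fst a s
  let az := pullback.snd a s
  let e := pullback.fst az ε
  have hε : ε ≫ s = s' ≫ h := by
    rw [← Spec.map_comp, ← Spec.map_comp, ← CommRingCat.ofHom_comp, ← CommRingCat.ofHom_comp]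
    rfl
  have hlift : (e ≫ i) ≫ a = (pullback.snd az ε ≫ s') ≫ h := by
    rw [Category.assoc, Category.assoc, ← hε, pullback.condition, ← Category.assoc,
      pullback.condition, Category.assoc]
  let l : pullback az ε ⟶ pullback a h := pullback.lift (e ≫ i) (pullback.snd az ε ≫ s') hlift
  have hl1 : l ≫ b = e ≫ i := pullback.lift_fst _ _ _
  have hl : IsPullback l (pullback.snd az ε) a' s' := by
    refine IsPullback.of_right ?_ (pullback.lift_snd _ _ _) (IsPullback.of_hasPullback a h)
    show IsPullback (l ≫ b) (pullback.snd az ε) a (s' ≫ h)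
    rw [hl1, ← hε]
    exact (IsPullback.of_hasPullback az ε).paste_horiz (IsPullback.of_hasPullback a s)
  haveI : IsProper a' := MorphismProperty.pullback_snd _ _ ‹IsProper a›
  haveI : IsProper az := MorphismProperty.pullback_snd _ _ ‹IsProper a›
  haveI : PreservesFiniteLimits (EtCoh.pull i) := pull_preservesFiniteLimits _
  haveI : PreservesFiniteLimits (EtCoh.pull e) := pull_preservesFiniteLimits _
  haveI : PreservesFiniteLimits (EtCoh.pull (e ≫ i)) := pull_preservesFiniteLimits _
  haveI : PreservesFiniteLimits (EtCoh.pull l) := pull_preservesFiniteLimits _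
  haveI : PreservesFiniteLimits (EtCoh.pull hl.isoPullback.hom) := pull_preservesFiniteLimits _
  haveI : PreservesFiniteLimits (EtCoh.pull (pullback.fst a' s')) := pull_preservesFiniteLimits _
  have h1 : Function.Bijective (fun x => EtCore.Hpull e ((EtCoh.pull i).obj F) q (EtCore.Hpull i F q x)) :=
    (S3479.result k K az _ (isTorsion_pull i hF) q).comp
      (GabberAff13.bijective_Hpull_closedFibre R a F hF q)
  have h2 := (Hpull_comp_bijective_iff l b (e ≫ i) hl1 F q).1
    ((Hpull_comp_bijective_iff e i (e ≫ i) rfl F q).2 h1)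
  have h3 : Function.Bijective (EtCore.Hpull l ((EtCoh.pull b).obj F) q) :=
    (Hpull_comp_bijective_iff hl.isoPullback.hom (pullback.fst a' s') l hl.isoPullback_hom_fst _ q).2
      ((Hpull_bijective_of_isIso (k := hl.isoPullback.hom) _ q).comp
        (GabberAff13.bijective_Hpull_closedFibre R' a' _ (isTorsion_pull b hF) q))
  exact (Function.Bijective.of_comp_iff' h3 _).1 h2

end Groth.Agent.UBC
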